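import Groth.Agent.KoszulReg.Basic
import Groth.Prelude.Def_RegImm
import Mathlib.AlgebraicGeometry.Morphisms.Flat
import Mathlib.AlgebraicGeometry.Morphisms.ClosedImmersion

/-!
Koszul-regular immersions: shrinking to basic opens, composition and flat base change.
-/

universe u

open CategoryTheory CategoryTheory.Limits AlgebraicGeometry

namespace Groth.KoszulReg

variable {X Y Z : Scheme.{u}}

theorem surjective_app (i : Z ⟶ X) (U : X.Opens) (hU : IsAffineOpen U)
    [IsClosedImmersion (i ∣_ U)] : Function.Surjective (i.app U).hom := by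
  have : IsAffine U := hU
  have h1 := (i ∣_ U).app_surjective ⊤ (isAffineOpen_top _)
  rw [morphismRestrict_app] at h1
  have h2 : Function.Surjective (i.app (U.ι ''ᵁ ⊤)).hom := by
    intro y
    obtain ⟨x, hx⟩ := h1 ((Z.presheaf.map (eqToHom (image_morphismRestrict_preimage i U ⊤)).op).hom y)
    exact ⟨x, (ConcreteCategory.bijective_of_isIso
      (Z.presheaf.map (eqToHom (image_morphismRestrict_preimage i U ⊤)).op)).1 hx⟩
  rwa [Scheme.Opens.ι_image_top] at h2

theorem isAffineOpen_preimage (i : Z ⟶ X) (U : X.Opens) (hU : IsAffineOpen U)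
    [IsClosedImmersion (i ∣_ U)] : IsAffineOpen (i ⁻¹ᵁ U) :=
  have : IsAffine U := hU
  isAffine_of_isAffineHom (i ∣_ U)

theorem isClosedImmersion_restrict (i : Z ⟶ X) {U V : X.Opens} (hVU : V ≤ U)
    [IsClosedImmersion (i ∣_ U)] : IsClosedImmersion (i ∣_ V) := by
  have h1 : IsClosedImmersion (i ∣_ U ∣_ (U.ι ⁻¹ᵁ V)) := IsZariskiLocalAtTarget.restrict ‹_› _
  have h2 : U.ι ''ᵁ (U.ι ⁻¹ᵁ V) = V := by
    rw [Scheme.Hom.image_preimage_eq_opensRange_inf, Scheme.Opens.opensRange_ι, inf_eq_right.mpr hVU]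
  exact (MorphismProperty.arrow_mk_iso_iff @IsClosedImmersion
    (morphismRestrictRestrict i U _ ≪≫ morphismRestrictEq i h2)).mp h1

/-- Shrinking a chart of a Koszul regular immersion to a basic open. -/
theorem chart_basicOpen (i : Z ⟶ X) {U : X.Opens} (hU : IsAffineOpen U)
    [IsClosedImmersion (i ∣_ U)] (rs : List Γ(X, U)) (hrs : LCI.IsKoszulRegularSeq Γ(X, U) rs)
    (hker : RingHom.ker (i.app U).hom = Ideal.ofList rs) (f : Γ(X, U)) (V : X.Opens)
    (hV : V = X.basicOpen f) (hVU : V ≤ U) :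
    IsAffineOpen V ∧ IsClosedImmersion (i ∣_ V) ∧
      LCI.IsKoszulRegularSeq Γ(X, V) (rs.map (X.presheaf.map (homOfLE hVU).op).hom) ∧
      RingHom.ker (i.app V).hom =
        Ideal.ofList (rs.map (X.presheaf.map (homOfLE hVU).op).hom) := by
  refine ⟨hV ▸ hU.basicOpen f, isClosedImmersion_restrict i hVU, ?_, ?_⟩
  · refine isKoszulRegularSeq_map _ ?_ rs hrs
    let _ := (X.presheaf.map (homOfLE hVU).op).hom.toAlgebra
    have := hU.isLocalization_of_eq_basicOpen f (homOfLE hVU) hV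
    exact IsLocalization.flat Γ(X, V) (Submonoid.powers f)
  rw [← Ideal.map_ofList, ← hker]
  set res := (X.presheaf.map (homOfLE hVU).op).hom
  have hle : i ⁻¹ᵁ V ≤ i ⁻¹ᵁ U := i.preimage_mono hVU
  have hnat : ∀ x, (i.app V).hom (res x) = (Z.presheaf.map (homOfLE hle).op).hom ((i.app U).hom x) :=
    fun x => congr_arg (fun φ => φ.hom x) (i.naturality (homOfLE hVU).op)
  refine le_antisymm (fun x hx => ?_) (Ideal.map_le_iff_le_comap.mpr fun x hx => ?_)
  · let _ := res.toAlgebra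
    have := hU.isLocalization_of_eq_basicOpen f (homOfLE hVU) hV
    obtain ⟨a, ⟨_, k, rfl⟩, rfl⟩ := IsLocalization.exists_mk'_eq (Submonoid.powers f) x
    change _ ∈ (RingHom.ker (i.app U).hom).map (algebraMap Γ(X, U) Γ(X, V))
    rw [IsLocalization.mk'_mem_map_algebraMap_iff]
    have h1 : (i.app V).hom (res a) = 0 := by
      change (i.app V).hom (algebraMap Γ(X, U) Γ(X, V) a) = 0
      rw [← IsLocalization.mk'_spec' Γ(X, V) a (⟨f ^ k, ⟨k, rfl⟩⟩ : Submonoid.powers f), map_mul,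
        RingHom.mem_ker.mp hx, mul_zero]
    rw [hnat] at h1
    have hW : i ⁻¹ᵁ V = Z.basicOpen ((i.app U).hom f) := by
      rw [hV, Scheme.preimage_basicOpen]
    let _ := (Z.presheaf.map (homOfLE hle).op).hom.toAlgebra
    have := (isAffineOpen_preimage i U hU).isLocalization_of_eq_basicOpen _ (homOfLE hle) hW
    change algebraMap Γ(Z, i ⁻¹ᵁ U) Γ(Z, i ⁻¹ᵁ V) ((i.app U).hom a) = 0 at h1
    rw [IsLocalization.map_eq_zero_iff (Submonoid.powers ((i.app U).hom f))] at h1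
    obtain ⟨⟨_, n, rfl⟩, hn⟩ := h1
    refine ⟨f ^ n, ⟨n, rfl⟩, ?_⟩
    rw [RingHom.mem_ker, map_mul, map_pow]
    exact hn
  · rw [Ideal.mem_comap, RingHom.mem_ker, hnat, RingHom.mem_ker.mp hx, map_zero]

/-- Chart for a composition of Koszul regular immersions, keeping track of lengths. -/
theorem chart_comp (i : Y ⟶ X) (j : Z ⟶ Y) (z : Z)
    {U : X.Opens} (hU : IsAffineOpen U) [IsClosedImmersion (i ∣_ U)] (hzU : i (j z) ∈ U)
    (rs : List Γ(X, U)) (hrs : LCI.IsKoszulRegularSeq Γ(X, U) rs)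
    (hkeri : RingHom.ker (i.app U).hom = Ideal.ofList rs)
    {V : Y.Opens} (hV : IsAffineOpen V) [IsClosedImmersion (j ∣_ V)] (hzV : j z ∈ V)
    (ss : List Γ(Y, V)) (hss : LCI.IsKoszulRegularSeq Γ(Y, V) ss)
    (hkerj : RingHom.ker (j.app V).hom = Ideal.ofList ss) :
    ∃ U' : X.affineOpens, (j ≫ i) z ∈ U'.1 ∧ IsClosedImmersion ((j ≫ i) ∣_ U'.1) ∧
      ∃ ts : List Γ(X, U'.1), ts.length = ss.length + rs.length ∧
        LCI.IsKoszulRegularSeq Γ(X, U'.1) ts ∧
        RingHom.ker ((j ≫ i).app U'.1).hom = Ideal.ofList ts := by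
  obtain ⟨b, b', hbb', hzb⟩ := exists_basicOpen_le_affine_inter (isAffineOpen_preimage i U hU) hV
    (j z) ⟨hzU, hzV⟩
  obtain ⟨a, rfl⟩ := surjective_app i U hU b
  have hpre : i ⁻¹ᵁ X.basicOpen a = Y.basicOpen b' := by
    rw [Scheme.preimage_basicOpen]; exact hbb'
  obtain ⟨hA, hci, hrs', hkeri'⟩ := chart_basicOpen i hU rs hrs hkeri a _ rfl (X.basicOpen_le a)
  obtain ⟨-, hcj, hss', hkerj'⟩ := chart_basicOpen j hV ss hss hkerj b' _ hpre
    (hpre.le.trans (Y.basicOpen_le b'))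
  refine ⟨⟨X.basicOpen a, hA⟩, ?_, ?_, ?_⟩
  · change j z ∈ i ⁻¹ᵁ X.basicOpen a
    rw [Scheme.preimage_basicOpen]
    exact hzb
  · change IsClosedImmersion ((j ≫ i) ∣_ X.basicOpen a)
    rw [morphismRestrict_comp]
    exact MorphismProperty.comp_mem _ _ _ hcj hci
  have hsurj := surjective_app i _ hA
  obtain ⟨gs, hgs⟩ : ∃ gs : List Γ(X, X.basicOpen a), gs.map (i.app (X.basicOpen a)).hom =
      ss.map (Y.presheaf.map (homOfLE (hpre.le.trans (Y.basicOpen_le b'))).op).hom :=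
    ⟨(ss.map _).map (Function.surjInv hsurj), by
      rw [List.map_map, Function.comp_surjInv, List.map_id]⟩
  refine ⟨gs ++ rs.map (X.presheaf.map (homOfLE (X.basicOpen_le a)).op).hom, ?_, ?_, ?_⟩
  · have h1 := congrArg List.length hgs
    simp only [List.length_map] at h1
    simp [h1]
  · exact isKoszulRegularSeq_append _ gs hrs' _ hsurj hkeri' (hgs ▸ hss')
  · change RingHom.ker ((j.app (i ⁻¹ᵁ X.basicOpen a)).hom.comp (i.app (X.basicOpen a)).hom) = _
    rw [← RingHom.comap_ker, hkerj', ← hgs,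
      ← Ideal.map_ofList, Ideal.comap_map_of_surjective _ hsurj, Ideal.ofList_append]
    congr 1

variable {X' Y' : Scheme.{u}}

/-- Flat base change of a Koszul regular immersion, at a point. -/
theorem isRegularImmersionAt_baseChange (i : Y ⟶ X) (g : X' ⟶ X) [Flat g]
    (i' : Y' ⟶ X') (g' : Y' ⟶ Y) (hsq : IsPullback g' i' i g) (z : Y')
    (h : RegImm.IsRegularImmersionAt .koszul i (g' z)) :
    RegImm.IsRegularImmersionAt .koszul i' z := by
  obtain ⟨U, hzU, hci, rs, hrs, hker⟩ := h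
  have hmem : i' z ∈ g ⁻¹ᵁ U.1 := by
    change g (i' z) ∈ U.1
    rw [← Scheme.Hom.comp_apply, ← hsq.w]
    exact hzU
  obtain ⟨U', hU', hzU', hU'le⟩ := exists_isAffineOpen_mem_and_subset hmem
  have hUX : i ⁻¹ᵁ U.1 ≤ i ⁻¹ᵁ U.1 := le_rfl
  have hUY : i' ⁻¹ᵁ U' = g' ⁻¹ᵁ (i ⁻¹ᵁ U.1) ⊓ i' ⁻¹ᵁ U' := by
    refine (inf_eq_right.mpr fun y hy => ?_).symm
    change i (g' y) ∈ U.1
    rw [← Scheme.Hom.comp_apply, hsq.w]
    exact hU'le hy
  have hpo := (isIso_pushoutSection_iff hsq hU'le hUX hUY).mp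
    (isIso_pushoutSection_of_isAffineOpen hsq hU'le hUX hUY U.2 hU'
      (isAffineOpen_preimage i U.1 U.2))
  refine ⟨⟨U', hU'⟩, hzU', ?_, rs.map (g.appLE U.1 U' hU'le).hom, ?_, ?_⟩
  · have h1 := Scheme.Hom.isPullback_resLE hsq hU'le hUX hUY
    rw [Scheme.Hom.resLE_eq_morphismRestrict, Scheme.Hom.resLE_eq_morphismRestrict] at h1
    exact MorphismProperty.of_isPullback h1 hci
  · exact isKoszulRegularSeq_map _
      (Flat.flat_appLE g U.2 hU' hU'le) rs hrs
  · rw [← Ideal.map_ofList, ← hker]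
    have happ : ∀ (e : i' ⁻¹ᵁ U' ≤ i' ⁻¹ᵁ U'), i'.appLE U' (i' ⁻¹ᵁ U') e = i'.app U' :=
      fun _ => (i'.app_eq_appLE).symm
    have happ' : i.appLE U.1 (i ⁻¹ᵁ U.1) hUX = i.app U.1 := (i.app_eq_appLE).symm
    rw [happ, happ'] at hpo
    refine le_antisymm ?_ (Ideal.map_le_iff_le_comap.mpr fun x hx => ?_)
    · set J := (RingHom.ker (i.app U.1).hom).map (g.appLE U.1 U' hU'le).hom
      let inl : Γ(Y, i ⁻¹ᵁ U.1) →+* Γ(X', U') ⧸ J :=
        (i.app U.1).hom.liftOfSurjective (surjective_app i U.1 U.2)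
          ⟨(Ideal.Quotient.mk J).comp (g.appLE U.1 U' hU'le).hom, fun x hx =>
            Ideal.Quotient.eq_zero_iff_mem.mpr (Ideal.mem_map_of_mem _ hx)⟩
      have hcomm : i.app U.1 ≫ CommRingCat.ofHom inl =
          g.appLE U.1 U' hU'le ≫ CommRingCat.ofHom (Ideal.Quotient.mk J) := by
        ext x
        simp only [inl, RingHom.liftOfSurjective, CommRingCat.hom_comp, CommRingCat.hom_ofHom, RingHom.comp_apply]
        exact RingHom.liftOfRightInverse_comp_apply _ _ _ _ _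
      intro x hx
      rw [← Ideal.Quotient.eq_zero_iff_mem]
      have h2 := congr_arg (fun φ => φ.hom x) (hpo.inr_desc _ _ hcomm)
      simp only [CommRingCat.hom_comp, RingHom.comp_apply, CommRingCat.hom_ofHom] at h2
      rw [← h2, RingHom.mem_ker.mp hx, map_zero]
    · rw [Ideal.mem_comap, RingHom.mem_ker]
      have h2 := congr_arg (fun φ => φ.hom x) hpo.w
      simp only [CommRingCat.hom_comp, RingHom.comp_apply] at h2
      rw [← h2, RingHom.mem_ker.mp hx, map_zero]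

end Groth.KoszulReg
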