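import Groth.Agent.KoszulReg.Basic
import Groth.Prelude.Def_CInt
import Mathlib.LinearAlgebra.Pi

/-!
# Relations of Koszul-regular sequences are trivial
-/

set_option autoImplicit false

universe u

open CategoryTheory CategoryTheory.Limits CochainComplex

namespace Groth.KoszulReg

variable {R : Type u} [CommRing R]

/-- The trivial relations. -/
abbrev trivRelSub {n : ℕ} (f : Fin n → R) : Submodule R (Fin n → R) :=
  Submodule.span R {v : Fin n → R | ∃ (i j : Fin n) (x : R),
    v = f j • (Pi.single i x : Fin n → R) - f i • (Pi.single j x : Fin n → R)}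

private lemma trivial_cons {n : ℕ} (f : R) (t : Fin n → R) (w : Fin n → R) :
    (Fin.cons (-∑ i, w i * t i) (f • w) : Fin (n + 1) → R) ∈ trivRelSub (Fin.cons f t) := by
  classical
  have h : (Fin.cons (-∑ i, w i * t i) (f • w) : Fin (n + 1) → R) =
      ∑ i : Fin n, ((Fin.cons f t : Fin (n + 1) → R) 0 • (Pi.single i.succ (w i) : Fin (n + 1) → R) -
        (Fin.cons f t : Fin (n + 1) → R) i.succ • (Pi.single 0 (w i) : Fin (n + 1) → R)) := by
    funext j
    rw [Finset.sum_apply]
    refine Fin.cases ?_ (fun j => ?_) j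
    · simp [mul_comm]
    · simp [Pi.single_apply, Fin.succ_inj, eq_comm, Finset.sum_ite_eq', mul_comm]
  rw [h]
  exact Submodule.sum_mem _ fun i _ => Submodule.subset_span ⟨i.succ, 0, w i, rfl⟩

private lemma cons_zero_mem {n : ℕ} (f : R) (t : Fin n → R) {v : Fin n → R} (hv : v ∈ trivRelSub t) :
    (Fin.cons 0 v : Fin (n + 1) → R) ∈ trivRelSub (Fin.cons f t) := by
  classical
  induction hv using Submodule.span_induction with
  | mem v hv =>
    obtain ⟨i, j, x, rfl⟩ := hv
    refine Submodule.subset_span ⟨i.succ, j.succ, x, ?_⟩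
    funext m
    refine Fin.cases ?_ (fun m => ?_) m
    · simp [Pi.single_apply, (Fin.succ_ne_zero _).symm]
    · simp [Pi.single_apply, Fin.succ_inj]
  | zero =>
    have : (Fin.cons 0 0 : Fin (n + 1) → R) = 0 := by
      funext m; refine Fin.cases ?_ (fun m => ?_) m <;> simp
    rw [this]; exact zero_mem _
  | add v w _ _ hv hw =>
    have : (Fin.cons 0 (v + w) : Fin (n + 1) → R) = Fin.cons 0 v + Fin.cons 0 w := by
      funext m; refine Fin.cases ?_ (fun m => ?_) m <;> simp
    rw [this]; exact add_mem hv hw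
  | smul a v _ hv =>
    have : (Fin.cons 0 (a • v) : Fin (n + 1) → R) = a • Fin.cons 0 v := by
      funext m; refine Fin.cases ?_ (fun m => ?_) m <;> simp
    rw [this]; exact Submodule.smul_mem _ a hv

/-- The bottom of the Koszul complex. -/
theorem exists_bottom : ∀ l : List R,
    ∃ (ε : R → (Koszul.koszul R l).X 0) (π₀ : (Koszul.koszul R l).X 0 →ₗ[R] R)
      (σ : (Fin l.length → R) → (Koszul.koszul R l).X (-1))
      (π : (Koszul.koszul R l).X (-1) →ₗ[R] (Fin l.length → R)),
      (∀ r, π₀ (ε r) = r) ∧ (∀ c, π (σ c) = c) ∧ (∀ r s, ε (r + s) = ε r + ε s) ∧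
      (∀ a r, ε (a * r) = a • ε r) ∧
      (∀ c, (Koszul.koszul R l).d (-1) 0 (σ c) = ε (∑ i, c i * l.get i)) ∧
      (∀ x, π₀ ((Koszul.koszul R l).d (-1) 0 x) = ∑ i, π x i * l.get i) ∧
      ∀ y, π ((Koszul.koszul R l).d (-2) (-1) y) ∈ trivRelSub l.get
  | [] => by
    haveI : Subsingleton ((Koszul.koszul R ([] : List R)).X (-1)) :=
      ModuleCat.isZero_iff_subsingleton.1 (HomologicalComplex.isZero_single_obj_X _ _ _ _ (by omega))
    haveI : Subsingleton (Fin ([] : List R).length → R) := ⟨fun a b => funext fun i => i.elim0⟩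
    let e : (Koszul.koszul R ([] : List R)).X 0 ≃ₗ[R] R :=
      (HomologicalComplex.singleObjXSelf (ComplexShape.up ℤ) 0 (ModuleCat.of R R)).toLinearEquiv
    refine ⟨e.symm, e.toLinearMap, fun _ => 0, 0, e.apply_symm_apply, fun c => Subsingleton.elim _ _,
      e.symm.map_add, fun a r => e.symm.map_smul a r, fun c => ?_, fun x => ?_, fun y => ?_⟩
    · simp
    · rw [Subsingleton.elim x 0]; simp
    · rw [Subsingleton.elim (((Koszul.koszul R ([] : List R)).d (-2) (-1)) y) 0, map_zero]; exact zero_mem _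
  | f :: t => by
    obtain ⟨ε, π₀, σ, π, hπ₀, hπ, hεadd, hεsmul, hσ, hd, htriv⟩ := exists_bottom t
    let K := Koszul.koszul R t
    let φ : K ⟶ K := f • 𝟙 K
    have hφ : ∀ (i : ℤ) (x : K.X i), φ.f i x = f • x := fun i x => rfl
    haveI : Subsingleton (K.X 1) :=
      ModuleCat.isZero_iff_subsingleton.1 (isZero_koszul_X t 1 one_pos)
    let F : (mappingCone φ).X (-1) →ₗ[R] K.X 0 :=
      ((mappingCone.fst φ).1.v (-1) 0 (by norm_num)).hom
    let S : (mappingCone φ).X (-1) →ₗ[R] K.X (-1) :=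
      ((mappingCone.snd φ).v (-1) (-1) (by norm_num)).hom
    let I : K.X 0 →ₗ[R] (mappingCone φ).X (-1) := ((mappingCone.inl φ).v 0 (-1) (by norm_num)).hom
    let J : K.X (-1) →ₗ[R] (mappingCone φ).X (-1) := ((mappingCone.inr φ).f (-1)).hom
    let J₀ : K.X 0 →ₗ[R] (mappingCone φ).X 0 := ((mappingCone.inr φ).f 0).hom
    let S₀ : (mappingCone φ).X 0 →ₗ[R] K.X 0 := ((mappingCone.snd φ).v 0 0 (by norm_num)).hom
    have hFI : ∀ e, F (I e) = e := fun e =>
      ConcreteCategory.congr_hom (mappingCone.inl_v_fst_v φ 0 (-1) (by norm_num)) e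
    have hSI : ∀ e, S (I e) = 0 := fun e =>
      ConcreteCategory.congr_hom (mappingCone.inl_v_snd_v φ 0 (-1) _) e
    have hFJ : ∀ e, F (J e) = 0 := fun e =>
      ConcreteCategory.congr_hom (mappingCone.inr_f_fst_v φ (-1) 0 (by norm_num)) e
    have hSJ : ∀ e, S (J e) = e := fun e =>
      ConcreteCategory.congr_hom (mappingCone.inr_f_snd_v φ (-1)) e
    have hS₀J : ∀ e, S₀ (J₀ e) = e := fun e =>
      ConcreteCategory.congr_hom (mappingCone.inr_f_snd_v φ 0) e
    have hdI : ∀ e, (mappingCone φ).d (-1) 0 (I e) = f • J₀ e := fun e => by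
      have h := ConcreteCategory.congr_hom (mappingCone.inl_v_d φ 0 (-1) 1 (by norm_num) (by norm_num)) e
      refine h.trans ?_
      rw [show K.d 0 1 = 0 from (isZero_koszul_X t 1 one_pos).eq_of_tgt _ _, zero_comp, sub_zero]
      show J₀ (φ.f 0 e) = _
      rw [hφ, map_smul]
    have hdJ : ∀ e, (mappingCone φ).d (-1) 0 (J e) = J₀ (K.d (-1) 0 e) := fun e =>
      ConcreteCategory.congr_hom (mappingCone.inr_f_d φ (-1) 0) e
    have hdS : ∀ x, S₀ ((mappingCone φ).d (-1) 0 x) = f • F x + K.d (-1) 0 (S x) := fun x => by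
      refine (ConcreteCategory.congr_hom (mappingCone.d_snd_v φ (-1) 0 (by norm_num)) x).trans ?_
      show φ.f 0 (F x) + K.d (-1) 0 (S x) = _
      rw [hφ]
    refine ⟨fun r => J₀ (ε r), π₀ ∘ₗ S₀, fun c => I (ε (c 0)) + J (σ (Fin.tail c)),
      LinearMap.pi (Fin.cons (π₀ ∘ₗ F) fun i => LinearMap.proj i ∘ₗ π ∘ₗ S), fun r => ?_, fun c => ?_,
      fun r s => (congrArg J₀ (hεadd r s)).trans (map_add J₀ _ _),
      fun a r => (congrArg J₀ (hεsmul a r)).trans (map_smul J₀ _ _), fun c => ?_, fun x => ?_, ?_⟩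
    · show π₀ (S₀ (J₀ (ε r))) = r
      rw [hS₀J, hπ₀]
    · funext i
      refine Fin.cases ?_ (fun i => ?_) i
      · show π₀ (F (I (ε (c 0)) + J (σ (Fin.tail c)))) = c 0
        rw [map_add, hFI, hFJ, add_zero, hπ₀]
      · show π (S (I (ε (c 0)) + J (σ (Fin.tail c)))) i = c i.succ
        rw [map_add, hSI, hSJ, zero_add, hπ]
        rfl
    · show (mappingCone φ).d (-1) 0 (I (ε (c 0)) + J (σ (Fin.tail c))) = J₀ (ε (∑ i, c i * (f :: t).get i))
      rw [map_add, hdI, hdJ, hσ, ← map_smul, ← hεsmul, ← map_add, ← hεadd]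
      congr 2
      refine (Eq.trans ?_ (Fin.sum_univ_succ (n := t.length) fun i => c i * (f :: t).get i).symm)
      show f * c 0 + _ = c 0 * f + _
      rw [mul_comm]
      rfl
    · show π₀ (S₀ ((mappingCone φ).d (-1) 0 x)) = _
      refine (congrArg π₀ (hdS x)).trans ?_
      rw [map_add, map_smul, hd, smul_eq_mul]
      refine (Eq.trans ?_ (Fin.sum_univ_succ (n := t.length) fun i => _).symm)
      show f * π₀ (F x) + _ = π₀ (F x) * f + _
      rw [mul_comm]
      rfl
    · intro y
      let F₂ : (mappingCone φ).X (-2) →ₗ[R] K.X (-1) :=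
        ((mappingCone.fst φ).1.v (-2) (-1) (by norm_num)).hom
      let S₂ : (mappingCone φ).X (-2) →ₗ[R] K.X (-2) :=
        ((mappingCone.snd φ).v (-2) (-2) (by norm_num)).hom
      have h1 : F ((mappingCone φ).d (-2) (-1) y) = -K.d (-1) 0 (F₂ y) :=
        ConcreteCategory.congr_hom (mappingCone.d_fst_v φ (-2) (-1) 0 (by norm_num) (by norm_num)) y
      have h2 : S ((mappingCone φ).d (-2) (-1) y) = f • F₂ y + K.d (-2) (-1) (S₂ y) := by
        refine (ConcreteCategory.congr_hom (mappingCone.d_snd_v φ (-2) (-1) (by norm_num)) y).trans ?_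
        show φ.f (-1) (F₂ y) + K.d (-2) (-1) (S₂ y) = _
        rw [hφ]
      have key : LinearMap.pi (Fin.cons (π₀ ∘ₗ F) fun i => LinearMap.proj i ∘ₗ π ∘ₗ S)
          ((mappingCone φ).d (-2) (-1) y) =
          (Fin.cons (-∑ i, π (F₂ y) i * t.get i) (f • π (F₂ y)) : Fin (t.length + 1) → R) +
            Fin.cons 0 (π (K.d (-2) (-1) (S₂ y))) := by
        funext i
        refine Fin.cases ?_ (fun i => ?_) i
        · show π₀ (F ((mappingCone φ).d (-2) (-1) y)) = _
          rw [h1, map_neg, hd, Pi.add_apply, Fin.cons_zero, Fin.cons_zero, add_zero]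
        · show π (S ((mappingCone φ).d (-2) (-1) y)) i = _
          rw [h2, map_add, map_smul, Pi.add_apply, Pi.add_apply, Fin.cons_succ, Fin.cons_succ]
      have hget : ((f :: t).get : Fin (t.length + 1) → R) = Fin.cons f t.get := by
        funext i
        refine Fin.cases ?_ (fun i => ?_) i <;> rfl
      show _ ∈ trivRelSub (n := t.length + 1) (f :: t).get
      rw [hget]
      exact key ▸ add_mem (trivial_cons f t.get _) (cons_zero_mem f t.get (htriv _))

/-- Every relation of a Koszul-regular sequence is trivial. -/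
theorem koszulH1Zero_of_isKoszulRegularSeq {l : List R} (h : LCI.IsKoszulRegularSeq R l) :
    CInt.KoszulH1Zero l.get R := by
  obtain ⟨ε, π₀, σ, π, -, hπ, hεadd, -, hσ, -, htriv⟩ := exists_bottom l
  intro c hc
  have hcy : (Koszul.koszul R l).d (-1) 0 (σ c) = 0 := by
    rw [hσ, show ∑ i, c i * l.get i = 0 from (Finset.sum_congr rfl fun i _ => mul_comm _ _).trans hc]
    have h0 := hεadd 0 0
    rwa [add_zero, left_eq_add] at h0
  have hex : ((Koszul.koszul R l).sc' (-2) (-1) 0).Exact :=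
    (HomologicalComplex.exactAt_iff' _ (-2) (-1) 0 (by simp) (by simp)).1
      ((HomologicalComplex.exactAt_iff_isZero_homology _ _).2 (h (-1) (by norm_num)))
  obtain ⟨y, hy⟩ := (ShortComplex.moduleCat_exact_iff _).1 hex (σ c) hcy
  rw [← hπ c, ← show (Koszul.koszul R l).d (-2) (-1) y = σ c from hy]
  exact htriv y

end Groth.KoszulReg
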