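import Groth.Agent.KoszulReg.Basic
import Groth.Agent.KoszulCone.Cohomology

/-!
Weakly regular sequences are Koszul regular.
-/

universe u

open CategoryTheory CategoryTheory.Limits

namespace Groth.KoszulReg

variable {A : Type u} [CommRing A]

theorem koszul_eq_koszulCx (A : Type u) [CommRing A] : ∀ l : List A,
    Koszul.koszul A l = CohIII.koszulCx (ModuleCat.of A A) l
  | [] => rfl
  | f :: l => congrArg (fun K : CochainComplex (ModuleCat.{u} A) ℤ => CochainComplex.mappingCone (f • 𝟙 K))
      (koszul_eq_koszulCx A l)

/-- A weakly regular sequence is Koszul regular. -/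
theorem isKoszulRegularSeq_of_isWeaklyRegular {l : List A}
    (h : RingTheory.Sequence.IsWeaklyRegular A l) : LCI.IsKoszulRegularSeq A l := by
  intro i hi
  refine isZero_homology_congr (eqToIso (koszul_eq_koszulCx A l)) i ?_
  have := Groth.KoszulCone.subsingleton_of_isWeaklyRegular l (ModuleCat.of A A) h i hi
  exact ModuleCat.isZero_of_subsingleton _

/-- `H⁰` of the Koszul complex. -/
noncomputable def homologyZeroIso (l : List A) :
    (Koszul.koszul A l).homology 0 ≅ ModuleCat.of A (A ⧸ Ideal.ofList l) :=
  have : IsIso (augH l) := (ConcreteCategory.isIso_iff_bijective _).mpr (bijective_augH l)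
  asIso (augH l)

end Groth.KoszulReg
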