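import Groth.Prelude.Def_Koszul
import Groth.Prelude.Def_LCI2
import Groth.Agent.KoszulCone.Basic
import Mathlib.Algebra.Category.ModuleCat.Descent
import Mathlib.Algebra.Homology.DerivedCategory.Basic

/-!
Koszul-regular sequences in the mapping-cone model: the augmentation to `A ⧸ (l)`, invariance under
quasi-isomorphisms of the base complex, commutation with exact functors, flat base change and
concatenation.
-/

universe u

open CategoryTheory CategoryTheory.Limits CochainComplex.HomComplex

namespace Groth.KoszulReg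

variable {A B : Type u} [CommRing A] [CommRing B]

/-- Iterated cones on a complex. -/
noncomputable def kz (K : CochainComplex (ModuleCat.{u} A) ℤ) :
    List A → CochainComplex (ModuleCat.{u} A) ℤ
  | [] => K
  | f :: l => CochainComplex.mappingCone (f • 𝟙 (kz K l))

theorem koszul_eq_kz (A : Type u) [CommRing A] : ∀ l : List A, Koszul.koszul A l =
    kz ((HomologicalComplex.single (ModuleCat.{u} A) (ComplexShape.up ℤ) 0).obj (ModuleCat.of A A)) l
  | [] => rfl
  | f :: l => congrArg (fun K : CochainComplex (ModuleCat.{u} A) ℤ => CochainComplex.mappingCone (f • 𝟙 K))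
      (koszul_eq_kz A l)

theorem koszul_append (f : List A) : ∀ g : List A,
    Koszul.koszul A (g ++ f) = kz (Koszul.koszul A f) g
  | [] => rfl
  | a :: g => congrArg (fun K : CochainComplex (ModuleCat.{u} A) ℤ => CochainComplex.mappingCone (a • 𝟙 K))
      (koszul_append f g)

/-- Functoriality of iterated cones. -/
noncomputable def kzMap {K K' : CochainComplex (ModuleCat.{u} A) ℤ} (φ : K ⟶ K') :
    ∀ l : List A, kz K l ⟶ kz K' l
  | [] => φ
  | f :: l => CochainComplex.mappingCone.map (f • 𝟙 (kz K l)) (f • 𝟙 (kz K' l)) (kzMap φ l) (kzMap φ l)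
      (by simp)

theorem quasiIso_cone_map {K₁ L₁ K₂ L₂ : CochainComplex (ModuleCat.{u} A) ℤ} (φ₁ : K₁ ⟶ L₁)
    (φ₂ : K₂ ⟶ L₂) (a : K₁ ⟶ K₂) (b : L₁ ⟶ L₂) (comm : φ₁ ≫ b = a ≫ φ₂) [QuasiIso a] [QuasiIso b] :
    QuasiIso (CochainComplex.mappingCone.map φ₁ φ₂ a b comm) := by
  let _ := HasDerivedCategory.standard (ModuleCat.{u} A)
  rw [← DerivedCategory.isIso_Q_map_iff_quasiIso]
  exact Pretriangulated.isIso₃_of_isIso₁₂
    (DerivedCategory.Q.mapTriangle.map (CochainComplex.mappingCone.triangleMap φ₁ φ₂ a b comm))
    (DerivedCategory.mappingCone_triangle_distinguished φ₁)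
    (DerivedCategory.mappingCone_triangle_distinguished φ₂)
    ((DerivedCategory.isIso_Q_map_iff_quasiIso _ a).mpr ‹_›)
    ((DerivedCategory.isIso_Q_map_iff_quasiIso _ b).mpr ‹_›)

theorem quasiIso_kzMap {K K' : CochainComplex (ModuleCat.{u} A) ℤ} (φ : K ⟶ K') [QuasiIso φ] :
    ∀ l : List A, QuasiIso (kzMap φ l)
  | [] => ‹_›
  | f :: l => by
    have := quasiIso_kzMap φ l
    exact quasiIso_cone_map _ _ _ _ _

/-- An isomorphism of complexes compatible with maps gives one of cones. -/
noncomputable def coneIso {K₁ L₁ K₂ L₂ : CochainComplex (ModuleCat.{u} A) ℤ} (φ₁ : K₁ ⟶ L₁)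
    (φ₂ : K₂ ⟶ L₂) (a : K₁ ≅ K₂) (b : L₁ ≅ L₂) (comm : φ₁ ≫ b.hom = a.hom ≫ φ₂) :
    CochainComplex.mappingCone φ₁ ≅ CochainComplex.mappingCone φ₂ where
  hom := CochainComplex.mappingCone.map φ₁ φ₂ a.hom b.hom comm
  inv := CochainComplex.mappingCone.map φ₂ φ₁ a.inv b.inv
    (by rw [← cancel_epi a.hom, ← reassoc_of% comm]; simp)
  hom_inv_id := by
    rw [← CochainComplex.mappingCone.map_comp]; simp [CochainComplex.mappingCone.map_id]
  inv_hom_id := by
    rw [← CochainComplex.mappingCone.map_comp]; simp [CochainComplex.mappingCone.map_id]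

/-- Linear functors commute with iterated cones. -/
noncomputable def kzFunctorIso (F : ModuleCat.{u} A ⥤ ModuleCat.{u} B) [F.Additive]
    (K : CochainComplex (ModuleCat.{u} A) ℤ) : ∀ (prs : List (A × B)),
    (∀ q ∈ prs, ∀ {M N : ModuleCat.{u} A} (φ : M ⟶ N), F.map (q.1 • φ) = q.2 • F.map φ) →
    ((F.mapHomologicalComplex (ComplexShape.up ℤ)).obj (kz K (prs.map Prod.fst)) ≅
      kz ((F.mapHomologicalComplex (ComplexShape.up ℤ)).obj K) (prs.map Prod.snd))
  | [], _ => Iso.refl _
  | q :: prs, h =>
    CochainComplex.mappingCone.mapHomologicalComplexIso (q.1 • 𝟙 (kz K (prs.map Prod.fst))) F ≪≫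
      coneIso _ _ (kzFunctorIso F K prs fun q' hq' => h q' (List.mem_cons_of_mem _ hq'))
        (kzFunctorIso F K prs fun q' hq' => h q' (List.mem_cons_of_mem _ hq'))
        (by
          ext n : 1
          simp only [HomologicalComplex.comp_f, Functor.mapHomologicalComplex_map_f,
            HomologicalComplex.smul_f_apply, HomologicalComplex.id_f, h q (List.mem_cons_self ..),
            CategoryTheory.Functor.map_id, Linear.smul_comp, Linear.comp_smul, Category.id_comp,
            Category.comp_id]
          generalize (kzFunctorIso F K prs _).hom.f n = g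
          exact ModuleCat.hom_ext (LinearMap.ext fun x => g.hom.map_smul q.2 x))

theorem isZero_homology_congr {K L : CochainComplex (ModuleCat.{u} A) ℤ} (e : K ≅ L) (i : ℤ)
    (h : IsZero (L.homology i)) : IsZero (K.homology i) :=
  h.of_iso ((HomologicalComplex.homologyFunctor _ _ i).mapIso e)

theorem isZero_homology_map (F : ModuleCat.{u} A ⥤ ModuleCat.{u} B) [F.Additive]
    [PreservesFiniteLimits F] [PreservesFiniteColimits F] (K : CochainComplex (ModuleCat.{u} A) ℤ)
    (i : ℤ) (h : IsZero (K.homology i)) :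
    IsZero (((F.mapHomologicalComplex (ComplexShape.up ℤ)).obj K).homology i) :=
  (F.map_isZero h).of_iso ((K.sc i).mapHomologyIso F)

theorem isZero_koszul_X : ∀ (l : List A) (i : ℤ), 0 < i → IsZero ((Koszul.koszul A l).X i)
  | [], i, hi => HomologicalComplex.isZero_single_obj_X _ _ _ _ (by omega)
  | f :: l, i, hi => by
    rw [Koszul.koszul, CochainComplex.mappingCone.isZero_X_iff]
    exact ⟨isZero_koszul_X l _ (by omega), isZero_koszul_X l _ hi⟩

theorem isZero_koszul_homology (l : List A) (i : ℤ) (hi : 0 < i) :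
    IsZero ((Koszul.koszul A l).homology i) :=
  ShortComplex.isZero_homology_of_isZero_X₂ _ (isZero_koszul_X l i hi)

theorem smul_factor_eq_zero (f : A) (l : List A) :
    f • ModuleCat.ofHom (Submodule.factor (p := Ideal.ofList l) (p' := Ideal.ofList (f :: l))
      (by rw [Ideal.ofList_cons]; exact le_sup_right)) = 0 := by
  refine ModuleCat.hom_ext (LinearMap.ext fun z => ?_)
  obtain ⟨x, rfl⟩ := Submodule.Quotient.mk_surjective _ z
  change f • Ideal.Quotient.mk (Ideal.ofList (f :: l)) x = 0
  rw [Algebra.smul_def, Ideal.Quotient.algebraMap_eq, ← map_mul, Ideal.Quotient.eq_zero_iff_mem]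
  exact Ideal.mul_mem_right _ _ (by rw [Ideal.ofList_cons]; exact Ideal.mem_sup_left (Ideal.mem_span_singleton_self f))

theorem single_map_smul (a : A) {M N : ModuleCat.{u} A} (g : M ⟶ N) :
    (HomologicalComplex.single (ModuleCat.{u} A) (ComplexShape.up ℤ) 0).map (a • g) =
      a • (HomologicalComplex.single (ModuleCat.{u} A) (ComplexShape.up ℤ) 0).map g := by
  apply HomologicalComplex.from_single_hom_ext
  simp [HomologicalComplex.single_map_f_self]

/-- Augmentation of the Koszul complex. -/
noncomputable def aug : ∀ l : List A, Koszul.koszul A l ⟶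
    (HomologicalComplex.single (ModuleCat.{u} A) (ComplexShape.up ℤ) 0).obj
      (ModuleCat.of A (A ⧸ Ideal.ofList l))
  | [] => (HomologicalComplex.single (ModuleCat.{u} A) (ComplexShape.up ℤ) 0).map
      (ModuleCat.ofHom (Submodule.mkQ (Ideal.ofList ([] : List A))))
  | f :: l => CochainComplex.mappingCone.desc (f • 𝟙 (Koszul.koszul A l)) 0
      (aug l ≫ (HomologicalComplex.single (ModuleCat.{u} A) (ComplexShape.up ℤ) 0).map
        (ModuleCat.ofHom (Submodule.factor (p := Ideal.ofList l) (p' := Ideal.ofList (f :: l))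
          (by rw [Ideal.ofList_cons]; exact le_sup_right))))
      (by
        rw [δ_zero, Linear.smul_comp, Category.id_comp, ← Linear.comp_smul, ← single_map_smul,
          smul_factor_eq_zero, Functor.map_zero, comp_zero, Cochain.ofHom_zero])

/-- The augmentation on zeroth homology. -/
noncomputable def augH (l : List A) :
    (Koszul.koszul A l).homology 0 ⟶ ModuleCat.of A (A ⧸ Ideal.ofList l) :=
  HomologicalComplex.homologyMap (aug l) 0 ≫
    (HomologicalComplex.singleObjHomologySelfIso (ComplexShape.up ℤ) 0 _).hom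

theorem augH_cons (f : A) (l : List A) :
    HomologicalComplex.homologyMap (CochainComplex.mappingCone.inr (f • 𝟙 (Koszul.koszul A l))) 0 ≫
      augH (f :: l) = augH l ≫ ModuleCat.ofHom (Submodule.factor (p := Ideal.ofList l)
        (p' := Ideal.ofList (f :: l)) (by rw [Ideal.ofList_cons]; exact le_sup_right)) := by
  rw [augH, augH]
  erw [← Category.assoc, ← HomologicalComplex.homologyMap_comp]
  rw [aug, CochainComplex.mappingCone.inr_desc, HomologicalComplex.homologyMap_comp, Category.assoc,
    Category.assoc, HomologicalComplex.singleObjHomologySelfIso_hom_naturality]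

theorem bijective_augH : ∀ l : List A, Function.Bijective (augH l).hom
  | [] => by
    have hφ : IsIso (ModuleCat.ofHom (Submodule.mkQ (Ideal.ofList ([] : List A)))) := by
      rw [ConcreteCategory.isIso_iff_bijective]
      refine ⟨?_, Submodule.mkQ_surjective _⟩
      change Function.Injective (Submodule.mkQ _)
      rw [← LinearMap.ker_eq_bot, Submodule.ker_mkQ]
      exact Ideal.ofList_nil
    have : IsIso (augH ([] : List A)) := by
      rw [augH, aug]
      have h1 : IsIso (HomologicalComplex.homologyMap
          ((HomologicalComplex.single (ModuleCat.{u} A) (ComplexShape.up ℤ) 0).map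
            (ModuleCat.ofHom (Submodule.mkQ (Ideal.ofList ([] : List A))))) 0) :=
        Functor.map_isIso ((HomologicalComplex.single (ModuleCat.{u} A) (ComplexShape.up ℤ) 0) ⋙
          HomologicalComplex.homologyFunctor (ModuleCat.{u} A) (ComplexShape.up ℤ) 0) _
      exact @IsIso.comp_isIso _ _ _ _ _ _ _ h1 inferInstance
    exact ConcreteCategory.bijective_of_isIso _
  | f :: l => by
    have ih := bijective_augH l
    set K := Koszul.koszul A l
    have hsurj : Function.Surjective (HomologicalComplex.homologyMap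
        (CochainComplex.mappingCone.inr (f • 𝟙 K)) 0).hom := by
      intro y
      obtain ⟨δ, h1, -⟩ := Groth.KoszulCone.cone_exact_delta (f • 𝟙 K) 0 1 rfl
      have := ModuleCat.subsingleton_of_isZero (isZero_koszul_homology (A := A) l 1 one_pos)
      exact (h1 y).mp (Subsingleton.elim _ _)
    have hc : ∀ x, (augH (f :: l)).hom ((HomologicalComplex.homologyMap
        (CochainComplex.mappingCone.inr (f • 𝟙 K)) 0).hom x) =
        Submodule.factor (p := Ideal.ofList l) (p' := Ideal.ofList (f :: l))
          (by rw [Ideal.ofList_cons]; exact le_sup_right) ((augH l).hom x) :=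
      fun x => LinearMap.congr_fun (congrArg ModuleCat.Hom.hom (augH_cons f l)) x
    refine ⟨(injective_iff_map_eq_zero _).mpr fun y hy => ?_, fun z => ?_⟩
    · obtain ⟨x, rfl⟩ := hsurj y
      replace hy := (hc x).symm.trans hy
      obtain ⟨a, ha⟩ := Submodule.Quotient.mk_surjective _ ((augH l).hom x)
      rw [← ha] at hy
      replace hy : a ∈ Ideal.ofList (f :: l) := (Submodule.Quotient.mk_eq_zero _).mp hy
      rw [Ideal.ofList_cons, Submodule.mem_sup] at hy
      obtain ⟨u, hu, v, hv, rfl⟩ := hy
      obtain ⟨c, rfl⟩ := Ideal.mem_span_singleton.mp hu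
      obtain ⟨x', hx'⟩ := ih.2 (Submodule.Quotient.mk c)
      have : x = f • x' := by
        apply ih.1
        rw [map_smul, hx', ← ha, ← Submodule.Quotient.mk_smul, Submodule.Quotient.eq, smul_eq_mul,
          add_sub_cancel_left]
        exact hv
      rw [this]
      exact (Groth.KoszulCone.cone_exact₂ (f • 𝟙 K) 0 _).mpr
        ⟨x', Groth.KoszulCone.homologyMap_smul_id_apply f 0 x'⟩
    · obtain ⟨z', rfl⟩ := Submodule.factor_surjective (p := Ideal.ofList l)
        (p' := Ideal.ofList (f :: l)) (by rw [Ideal.ofList_cons]; exact le_sup_right) z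
      obtain ⟨x, rfl⟩ := ih.2 z'
      exact ⟨_, hc x⟩

theorem quasiIso_aug (l : List A) (h : LCI.IsKoszulRegularSeq A l) : QuasiIso (aug l) where
  quasiIsoAt i := by
    rw [quasiIsoAt_iff_isIso_homologyMap]
    by_cases hi : i = 0
    · subst hi
      have h2 : IsIso (HomologicalComplex.homologyMap (aug l) 0 ≫
          (HomologicalComplex.singleObjHomologySelfIso (ComplexShape.up ℤ) 0
            (ModuleCat.of A (A ⧸ Ideal.ofList l))).hom) :=
        ((ConcreteCategory.isIso_iff_bijective (augH l)).mpr (bijective_augH l) :)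
      exact IsIso.of_isIso_comp_right (HomologicalComplex.homologyMap (aug l) 0)
        (HomologicalComplex.singleObjHomologySelfIso (ComplexShape.up ℤ) 0
          (ModuleCat.of A (A ⧸ Ideal.ofList l))).hom
    · exact ⟨0, (h i hi).eq_of_src _ _,
        (HomologicalComplex.isZero_single_obj_homology _ _ _ _ hi).eq_of_src _ _⟩

/-- Koszul-regular sequences are stable under flat base change. -/
theorem isKoszulRegularSeq_map (θ : A →+* B) (hθ : θ.Flat) (l : List A)
    (h : LCI.IsKoszulRegularSeq A l) : LCI.IsKoszulRegularSeq B (l.map θ) := by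
  intro i hi
  let F := ModuleCat.extendScalars.{u, u, u} θ
  have := ModuleCat.preservesFiniteLimits_extendScalars_of_flat hθ
  have : F.Additive := Functor.additive_of_preserves_binary_products _
  let prs : List (A × B) := l.map fun a => (a, θ a)
  have hF : ∀ q ∈ prs, ∀ {M N : ModuleCat.{u} A} (φ : M ⟶ N), F.map (q.1 • φ) = q.2 • F.map φ := by
    intro q hq M N φ
    obtain ⟨a, -, rfl⟩ := List.mem_map.mp hq
    let _ := θ.toAlgebra
    apply ModuleCat.hom_ext
    refine LinearMap.ext fun z => ?_
    induction z using TensorProduct.induction_on with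
    | zero => exact (map_zero _).trans (map_zero _).symm
    | add x y hx hy => exact (map_add _ x y).trans ((congrArg₂ (· + ·) hx hy).trans (map_add _ x y).symm)
    | tmul b m =>
      change TensorProduct.tmul A b (a • φ.hom m) =
        TensorProduct.tmul A (@HMul.hMul B B B _ (θ a) b) (φ.hom m)
      rw [← TensorProduct.smul_tmul]
      rfl
  let eA : F.obj (ModuleCat.of A A) ≅ ModuleCat.of B B :=
    letI := θ.toAlgebra
    let e : TensorProduct A B A ≃ₗ[B] B := TensorProduct.AlgebraTensorModule.rid A B B
    LinearEquiv.toModuleIso (X₁ := F.obj (ModuleCat.of A A)) (X₂ := ModuleCat.of B B) e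
  have hl : prs.map Prod.fst = l := by simp [prs, Function.comp_def]
  have hl' : prs.map Prod.snd = l.map θ := by simp [prs, Function.comp_def]
  have hK := isZero_homology_map F _ i (h i hi)
  rw [koszul_eq_kz A l, ← hl] at hK
  have h2 := isZero_homology_congr (kzFunctorIso F _ prs hF).symm i hK
  rw [hl'] at h2
  let φ := (HomologicalComplex.singleMapHomologicalComplex F (ComplexShape.up ℤ) 0).hom.app
    (ModuleCat.of A A) ≫ (HomologicalComplex.single (ModuleCat.{u} B) (ComplexShape.up ℤ) 0).map eA.hom
  have := quasiIso_kzMap φ (l.map θ)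
  exact isZero_homology_congr (eqToIso (koszul_eq_kz B _)) i
    (h2.of_iso (asIso (HomologicalComplex.homologyMap (kzMap φ (l.map θ)) i)).symm)

/-- If `f` is Koszul regular in `A` and `g` Koszul regular in `A ⧸ (f)`, then so is `g ++ f` in `A`. -/
theorem isKoszulRegularSeq_append (f g : List A) (hf : LCI.IsKoszulRegularSeq A f)
    (π : A →+* B) (hπ : Function.Surjective π) (hker : RingHom.ker π = Ideal.ofList f)
    (hg : LCI.IsKoszulRegularSeq B (g.map π)) : LCI.IsKoszulRegularSeq A (g ++ f) := by
  intro i hi
  refine isZero_homology_congr (eqToIso (koszul_append f g)) i ?_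
  have := quasiIso_aug f hf
  have := quasiIso_kzMap (aug f) g
  refine IsZero.of_iso ?_ (asIso (HomologicalComplex.homologyMap (kzMap (aug f) g) i))
  let R := ModuleCat.restrictScalars.{u} π
  let prs : List (B × A) := g.map fun a => (π a, a)
  have hR : ∀ q ∈ prs, ∀ {M N : ModuleCat.{u} B} (φ : M ⟶ N), R.map (q.1 • φ) = q.2 • R.map φ := by
    intro q hq M N φ
    obtain ⟨a, -, rfl⟩ := List.mem_map.mp hq
    rfl
  let _ := π.toAlgebra
  let eB : R.obj (ModuleCat.of B B) ≅ ModuleCat.of A (A ⧸ Ideal.ofList f) :=
    (LinearEquiv.toModuleIso (X₁ := ModuleCat.of A (A ⧸ Ideal.ofList f))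
      (X₂ := R.obj (ModuleCat.of B B))
      ((Submodule.quotEquivOfEq _ (LinearMap.ker (Algebra.linearMap A B)) hker.symm).trans
        ((Algebra.linearMap A B).quotKerEquivOfSurjective hπ))).symm
  have hl : prs.map Prod.fst = g.map π := by simp [prs, Function.comp_def]
  have hl' : prs.map Prod.snd = g := by simp [prs, Function.comp_def]
  have hK := isZero_homology_map R _ i (hg i hi)
  rw [koszul_eq_kz B, ← hl] at hK
  have h2 := isZero_homology_congr (kzFunctorIso R _ prs hR).symm i hK
  rw [hl'] at h2
  let φ := (HomologicalComplex.singleMapHomologicalComplex R (ComplexShape.up ℤ) 0).hom.app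
    (ModuleCat.of B B) ≫ (HomologicalComplex.single (ModuleCat.{u} A) (ComplexShape.up ℤ) 0).map eB.hom
  have := quasiIso_kzMap φ g
  exact h2.of_iso (asIso (HomologicalComplex.homologyMap (kzMap φ g) i)).symm

end Groth.KoszulReg
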