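import Groth.Prelude.Def_Koszul
import Mathlib

/-!
The Koszul complex of `x f_1, …, x f_n` is the Koszul complex of `f` with differentials multiplied
by `x`.
-/

universe u

open CategoryTheory CategoryTheory.Limits CochainComplex.HomComplex
open CochainComplex (mappingCone)

namespace Groth.KoszulReg

variable {A : Type u} [CommRing A]

/-- The complex with differentials multiplied by `x`. -/
def scaled (x : A) (K : CochainComplex (ModuleCat.{u} A) ℤ) : CochainComplex (ModuleCat.{u} A) ℤ where
  X := K.X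
  d i j := x • K.d i j
  shape i j h := by rw [K.shape i j h, smul_zero]
  d_comp_d' i j k _ _ := by simp [Linear.smul_comp, Linear.comp_smul]

@[simp] lemma scaled_d (x : A) (K : CochainComplex (ModuleCat.{u} A) ℤ) (i j : ℤ) :
    (scaled x K).d i j = x • K.d i j := rfl

variable (x f : A) {K' K : CochainComplex (ModuleCat.{u} A) ℤ} (e : K' ≅ scaled x K)

/-- Components of an isomorphism with a scaled complex. -/
noncomputable def eHom (n : ℤ) : K'.X n ⟶ K.X n := e.hom.f n

/-- Components of the inverse. -/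
noncomputable def eInv (n : ℤ) : K.X n ⟶ K'.X n := e.inv.f n

@[reassoc (attr := simp)] lemma eHom_eInv (n : ℤ) : eHom x e n ≫ eInv x e n = 𝟙 _ :=
  congr_arg (fun φ => φ.f n) e.hom_inv_id

@[reassoc (attr := simp)] lemma eInv_eHom (n : ℤ) : eInv x e n ≫ eHom x e n = 𝟙 _ :=
  congr_arg (fun φ => φ.f n) e.inv_hom_id

@[reassoc] lemma eHom_comm (i j : ℤ) : K'.d i j ≫ eHom x e j = x • (eHom x e i ≫ K.d i j) :=
  ((e.hom.comm i j).symm).trans (Linear.comp_smul _ _ _ _ _ _)

open CochainComplex.mappingCone in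
/-- Components of the comparison of cones. -/
noncomputable def scaledConeHom (n : ℤ) :
    (mappingCone ((x * f) • 𝟙 K')).X n ⟶ (mappingCone (f • 𝟙 K)).X n :=
  (fst ((x * f) • 𝟙 K')).1.v n (n + 1) rfl ≫ eHom x e (n + 1) ≫
      (inl (f • 𝟙 K)).v (n + 1) n (by lia) +
    (snd ((x * f) • 𝟙 K')).v n n (add_zero n) ≫ eHom x e n ≫ (inr (f • 𝟙 K)).f n

open CochainComplex.mappingCone in
/-- Components of the inverse comparison of cones. -/
noncomputable def scaledConeInv (n : ℤ) :
    (mappingCone (f • 𝟙 K)).X n ⟶ (mappingCone ((x * f) • 𝟙 K')).X n :=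
  (fst (f • 𝟙 K)).1.v n (n + 1) rfl ≫ eInv x e (n + 1) ≫
      (inl ((x * f) • 𝟙 K')).v (n + 1) n (by lia) +
    (snd (f • 𝟙 K)).v n n (add_zero n) ≫ eInv x e n ≫ (inr ((x * f) • 𝟙 K')).f n

open CochainComplex.mappingCone in
/-- The comparison of cones. -/
noncomputable def scaledConeIso :
    mappingCone ((x * f) • 𝟙 K') ≅ scaled x (mappingCone (f • 𝟙 K)) :=
  HomologicalComplex.Hom.isoOfComponents
    (fun n => ({ hom := scaledConeHom x f e n
                 inv := scaledConeInv x f e n
                 hom_inv_id := by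
                   refine ext_from _ (n + 1) n rfl ?_ ?_ <;> simp [scaledConeHom, scaledConeInv]
                 inv_hom_id := by
                   refine ext_from _ (n + 1) n rfl ?_ ?_ <;> simp [scaledConeHom, scaledConeInv] } :
      (mappingCone ((x * f) • 𝟙 K')).X n ≅ (mappingCone (f • 𝟙 K)).X n))
    (by
      intro i j (hij : i + 1 = j)
      subst hij
      change scaledConeHom x f e i ≫ (x • (mappingCone (f • 𝟙 K)).d i (i + 1)) =
        (mappingCone ((x * f) • 𝟙 K')).d i (i + 1) ≫ scaledConeHom x f e (i + 1)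
      refine ext_from _ (i + 1) i rfl ?_ ?_
      · simp [scaledConeHom, inl_v_d_assoc _ (i + 1) i (i + 1 + 1) (by lia) (by lia), Linear.smul_comp,
          Linear.comp_smul]
        rw [inl_v_d _ (i + 1) i (i + 1 + 1) (by lia) (by lia)]
        simp [Preadditive.comp_sub, smul_sub, eHom_comm_assoc, mul_smul, sub_eq_add_neg,
          Linear.comp_smul, Linear.smul_comp, add_comm]
      · simp [scaledConeHom, Linear.smul_comp, Linear.comp_smul, eHom_comm_assoc])

/-- `K(x f) ≅ x · K(f)`. -/
theorem nonempty_koszul_scaled (x : A) : ∀ l : List A,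
    Nonempty (Koszul.koszul A (l.map fun f => x * f) ≅ scaled x (Koszul.koszul A l))
  | [] => ⟨HomologicalComplex.Hom.isoOfComponents (fun _ => Iso.refl _) fun i j _ => by
      simp [Koszul.koszul, CochainComplex.singleFunctor, CochainComplex.singleFunctors]
      exact comp_zero⟩
  | f :: l => ⟨scaledConeIso x f (nonempty_koszul_scaled x l).some⟩

open CochainComplex.mappingCone in
/-- Regular elements on the terms stay regular on the terms of a cone. -/
theorem isSMulRegular_cone {M N : CochainComplex (ModuleCat.{u} A) ℤ} (φ : M ⟶ N) (n : ℤ) {x : A}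
    (hM : IsSMulRegular (M.X (n + 1)) x) (hN : IsSMulRegular (N.X n) x) :
    IsSMulRegular ((mappingCone φ).X n) x := by
  refine IsSMulRegular.of_right_eq_zero_of_smul fun v hv => ?_
  have h1 : ((fst φ).1.v n (n + 1) rfl).hom v = 0 := hM.right_eq_zero_of_smul (by
    rw [← ((fst φ).1.v n (n + 1) rfl).hom.map_smul x v, hv, map_zero])
  have h2 : ((snd φ).v n n (add_zero n)).hom v = 0 := hN.right_eq_zero_of_smul (by
    rw [← ((snd φ).v n n (add_zero n)).hom.map_smul x v, hv, map_zero])
  have h3 : ((inl φ).v (n + 1) n (by lia)).hom (((fst φ).1.v n (n + 1) rfl).hom v) +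
      ((inr φ).f n).hom (((snd φ).v n n (add_zero n)).hom v) = v :=
    congr($(id_X φ n (n + 1) rfl) v)
  rw [h1, h2, map_zero, map_zero, add_zero] at h3
  exact h3.symm

/-- A non-zero-divisor acts injectively on the terms of a Koszul complex. -/
theorem isSMulRegular_koszul_X {x : A} (hx : x ∈ nonZeroDivisors A) : ∀ (l : List A) (n : ℤ),
    IsSMulRegular ((Koszul.koszul A l).X n) x
  | [], n => by
    by_cases hn : n = 0
    · subst hn
      have hA : IsSMulRegular (ModuleCat.of A A) x :=
        IsSMulRegular.of_right_eq_zero_of_smul fun v hv =>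
          (mul_left_mem_nonZeroDivisors_eq_zero_iff hx).1 hv
      exact ((HomologicalComplex.singleObjXSelf (ComplexShape.up ℤ) (0 : ℤ)
        (ModuleCat.of A A)).toLinearEquiv.isSMulRegular_congr x).2 hA
    · have := ModuleCat.subsingleton_of_isZero
        (HomologicalComplex.isZero_single_obj_X (ComplexShape.up ℤ) (0 : ℤ) (ModuleCat.of A A) n hn)
      exact fun a b _ => Subsingleton.elim (α := ((HomologicalComplex.single (ModuleCat.{u} A)
        (ComplexShape.up ℤ) (0 : ℤ)).obj (ModuleCat.of A A)).X n) a b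
  | f :: l, n => isSMulRegular_cone _ n (isSMulRegular_koszul_X hx l (n + 1))
      (isSMulRegular_koszul_X hx l n)

/-- Cohomology of the Koszul complex of `x f`. -/
theorem nonempty_homology_koszul_scaled {x : A} (hx : x ∈ nonZeroDivisors A) (l : List A) (q : ℤ) :
    Nonempty ((Koszul.koszul A (l.map (fun f => x * f))).homology q ≅
      ModuleCat.of A (↥(LinearMap.ker ((Koszul.koszul A l).d q (q + 1)).hom) ⧸
        Submodule.comap (LinearMap.ker ((Koszul.koszul A l).d q (q + 1)).hom).subtype
          (Ideal.span {x} • LinearMap.range ((Koszul.koszul A l).d (q - 1) q).hom))) := by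
  obtain ⟨e⟩ := nonempty_koszul_scaled x l
  let K := Koszul.koszul A l
  let S := (scaled x K).sc' (q - 1) q (q + 1)
  have hker : LinearMap.ker S.g.hom = LinearMap.ker (K.d q (q + 1)).hom := by
    ext v
    change x • (K.d q (q + 1)).hom v = 0 ↔ (K.d q (q + 1)).hom v = 0
    exact ⟨fun h => (isSMulRegular_koszul_X hx l (q + 1)).right_eq_zero_of_smul h,
      fun h => by rw [h, smul_zero]⟩
  refine ⟨(HomologicalComplex.homologyFunctor (ModuleCat.{u} A) _ q).mapIso e ≪≫
    (scaled x K).homologyIsoSc' (q - 1) q (q + 1) (by simp) (by simp) ≪≫ S.moduleCatHomologyIso ≪≫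
      (Submodule.Quotient.equiv _ _ (LinearEquiv.ofEq _ _ hker) ?_).toModuleIso⟩
  ext ⟨v, hv⟩
  simp only [Submodule.mem_map, Submodule.mem_comap, Submodule.ideal_span_singleton_smul,
    Submodule.mem_smul_pointwise_iff_exists]
  constructor
  · rintro ⟨_, ⟨w, rfl⟩, hw⟩
    exact ⟨(K.d (q - 1) q).hom w, ⟨w, rfl⟩, congrArg Subtype.val hw⟩
  · rintro ⟨_, ⟨w, rfl⟩, hw⟩
    exact ⟨_, ⟨w, rfl⟩, Subtype.ext hw⟩

end Groth.KoszulReg
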